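import Mathlib

set_option autoImplicit false

namespace CfsgLib.DihedralSub

open DihedralGroup

variable {n : ℕ}

/-- The subgroup of rotations and reflections with index in `A`. -/
def evenSub (A : AddSubgroup (ZMod n)) : Subgroup (DihedralGroup n) where
  carrier := {x | ∃ i ∈ A, x = r i ∨ x = sr i}
  one_mem' := ⟨0, A.zero_mem, Or.inl r_zero.symm⟩
  mul_mem' := by
    rintro _ _ ⟨i, hi, rfl | rfl⟩ ⟨j, hj, rfl | rfl⟩
    · exact ⟨i + j, A.add_mem hi hj, Or.inl (r_mul_r i j)⟩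
    · exact ⟨j - i, A.sub_mem hj hi, Or.inr (r_mul_sr i j)⟩
    · exact ⟨i + j, A.add_mem hi hj, Or.inr (sr_mul_r i j)⟩
    · exact ⟨j - i, A.sub_mem hj hi, Or.inl (sr_mul_sr i j)⟩
  inv_mem' := by
    rintro _ ⟨i, hi, rfl | rfl⟩
    · exact ⟨-i, A.neg_mem hi, Or.inl (inv_r i)⟩
    · exact ⟨i, hi, Or.inr (inv_sr i)⟩

theorem r_mem_evenSub {A : AddSubgroup (ZMod n)} {i : ZMod n} : r i ∈ evenSub A ↔ i ∈ A := by
  constructor
  · rintro ⟨j, hj, h | h⟩
    · exact DihedralGroup.r.inj h ▸ hj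
    · exact absurd h (by simp)
  · exact fun h => ⟨i, h, Or.inl rfl⟩

theorem sr_zero_mem_evenSub (A : AddSubgroup (ZMod n)) : sr 0 ∈ evenSub A := ⟨0, A.zero_mem, Or.inr rfl⟩

theorem not_commutative_evenSub {A : AddSubgroup (ZMod n)} {i : ZMod n} (hi : i ∈ A) (h : i + i ≠ 0) :
    ¬ IsMulCommutative (evenSub A) := fun hc => by
  have h1 := congrArg Subtype.val (hc.is_comm.comm (⟨r i, r_mem_evenSub.2 hi⟩ : evenSub A) ⟨sr 0, sr_zero_mem_evenSub A⟩)
  have h2 : r i * sr 0 = sr 0 * r i := h1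
  rw [r_mul_sr, sr_mul_r, zero_sub, zero_add, DihedralGroup.sr.injEq] at h2
  exact h (by nth_rw 1 [← h2]; exact neg_add_cancel i)

/-- A subgroup without reflections is cyclic. -/
theorem isCyclic_of_no_sr (H : Subgroup (DihedralGroup n)) (h : ∀ a, sr a ∉ H) : IsCyclic H := by
  have hle : H ≤ Subgroup.zpowers (r 1) := by
    intro x hx
    cases x with
    | r i => exact ⟨(i.cast : ℤ), by simp⟩
    | sr a => exact absurd hx (h a)
  exact Subgroup.isCyclic_of_le hle

theorem exists_sr {H : Subgroup (DihedralGroup n)} (h : ¬ IsCyclic H) : ∃ a, sr a ∈ H := by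
  by_contra hc
  push Not at hc
  exact h (isCyclic_of_no_sr H hc)

theorem not_cyclic_of_not_commutative {G : Type*} [Group G] {H : Subgroup G} (h : ¬ IsMulCommutative H) : ¬ IsCyclic H :=
  fun hc => h (by haveI := hc; infer_instance)

end CfsgLib.DihedralSub
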